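import Cfsg.Agent.H451.EP.Mid
import Cfsg.Agent.H451.EP.ArithO
import Cfsg.Agent.H274.EPO.NoOmega
import Cfsg.Agent.H948.Ppd.Podd

/-!
# S3499, own characteristic, odd dimensional orthogonal socles (helper451)

* `core_podd` : `Core P`, `Soc P ≃ PΩ_{2 l + 1}(K)`, `char K = char F`, dimension at least 13: `P = Ω(Q₁)`, or the
  dimension is large (`Bo`), or `(l, n) = (4, 16)` and `|K| = |F|`.
-/

set_option autoImplicit false
set_option linter.unusedSectionVars false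

namespace Cfsg.Agent.H451.EP

open CoxeterSystem Cfsg.Agent.ChevalleyStructure.CoxeterGeom Cfsg.Agent.Tits.Roots Cfsg.Agent.Tits.Core
  Cfsg.Agent.Nodes.Reps Cfsg.Agent.Nodes.BNOf Cfsg.Agent.Nodes.Bruhat Cfsg.Agent.Nodes.RGDLib
open Cfsg.Agent.Nodes Cfsg.Agent.Nodes.WittRoot Cfsg.Agent.Nodes.WittRGD Cfsg.Agent.Nodes.WittAll Cfsg.Agent.Nodes.WittInst
open Cfsg.Agent.Nodes.TypeC (isCartan)
open Cfsg.Agent.TitsThree.Siegel Cfsg.Agent.TitsThree.SiegelGen Cfsg.Agent.TitsThree.WittFrame Cfsg.Agent.TitsThree.FrameCN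
  Cfsg.Agent.TitsThree.WBridge Cfsg.Agent.TitsThree.KSideO Cfsg.Agent.TitsThree Cfsg.Agent.TitsThree.StdData
open Cfsg.Agent.LieClassical Cfsg.Agent.LieClassical.OrthCore Cfsg.Agent.LieClassical.OrthTrans
open Cfsg.Agent.LieClassical.OrthSimple Cfsg.Agent.LieClassical.OrthFinite Cfsg.Agent.LieClassical.OrthForms
open Cfsg.Agent.H915.LD Cfsg.Agent.H911 Cfsg.Agent.H905.Md Cfsg.Agent.H925.Nat Cfsg.Agent.Nodes.RGDLift
open Cfsg.Agent.H156.Ppd (Cov lrep exists_cov)
open Cfsg.Agent.Omega.CR Cfsg.Agent.Omega.FOne.Lift.Sd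
open Cfsg.Agent.H948.Ppd Cfsg.Agent.H274.EPO
open Cfsg Cfsg.Geo QuadraticMap
open scoped MatrixGroups Matrix

universe u

section core

variable {ι : Type} [Fintype ι] [DecidableEq ι] {F : Type u} [Field F] [Finite F] {P : Subgroup (GL ι F)}
  {K : Type} [Field K] [Fintype K] (p : ℕ) [hp : Fact p.Prime] [hFp : CharP F p] [hKp : CharP K p]

omit [Fintype K] in
theorem two_ne_of_odd [Fintype K] (hodd : Odd (Fintype.card K)) : (2 : K) ≠ 0 := by
  intro h20
  have h4 := FiniteField.even_card_of_char_two (CharP.ringChar_of_prime_eq_zero Nat.prime_two (by exact_mod_cast h20) :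
    ringChar K = 2)
  have := Nat.odd_iff.1 hodd
  omega

include hp hFp hKp

/-- **`PΩ_{2 l + 1}(K)` in its own characteristic.** -/
theorem core_podd (hC : Core P) (h13 : 13 ≤ Fintype.card ι) {l : ℕ} (hl3 : 3 ≤ l) (hodd : Odd (Fintype.card K))
    (e₁ : Soc P ≃* POmega K (quadFormOdd l K)) :
    (∃ Q₁ : (ι → F) → F, IsNondegenerateQuadraticForm Q₁ ∧ P = omegaGL Q₁) ∨
      (∃ j, Nat.card F ^ j = Nat.card K ∧ Bo (Fintype.card ι) l j) ∨
      (l = 4 ∧ Nat.card F = Nat.card K ∧ Fintype.card ι = 16) := by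
  have h2 : (2 : K) ≠ 0 := two_ne_of_odd hodd
  have hp2 : p ≠ 2 := by
    rintro rfl
    exact h2 (by exact_mod_cast CharP.cast_eq_zero K 2)
  have hG : Good (oddForm l K) := by
    apply good_of_finite (nondeg_oddForm l K h2)
    rw [Module.finrank_fintype_fun_eq_card, Fintype.card_sum, Fintype.card_sum, Fintype.card_fin,
      Fintype.card_unit]
    omega
  have hp0 : ((embOdd l K).ngt ⟨1, -1 ^ 2, rfl⟩).c ≠ 0 := by
    change (1 : K)⁻¹ * (-1 ^ 2) ≠ 0
    simp
  have e' := e₁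
  rw [← coe_oddForm] at e'
  have hWf : Finite (CoxeterMatrix.B l).Group := TypeC.finite_W (CoxeterMatrix.B l).toCoxeterSystem
  set M := model (wodd l K) hG ⟨_, hp0⟩ with hM
  have hA : AmbT (toFrame (wodd l K)) p M.I := AmbT.of_amb (amb_O_of_two _ h2) p
  have hperf : commutator ↥M.I = ⊤ := H911.Five.commutator_top hG.E_perfect
  obtain ⟨Y, _, _, f, φ, n₁, C⟩ := exists_covB hC hA hp0 (by omega) hperf e'
  -- the nodes
  have hNd1 : ∀ i : Fin l, ¬ (i : ℕ) + 1 < l →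
      ∃ σ' : SL(2, K) →* M.I, σ' (H911.SLTwo.ww * H911.SLTwo.ww) = 1 ∧ Nd (TB M) (XB M) i σ' :=
    fun i hi => nd_last_one h2 (H48.OMult.span_odd K l) hA.rg_le hi
  have hNd : ∀ i, ∃ σ' : SL(2, K) →* M.I, Nd (TB M) (XB M) i σ' := by
    intro i
    by_cases hi : (i : ℕ) + 1 < l
    · exact nd_long hA.rg_le hi
    · obtain ⟨σ', -, N⟩ := hNd1 i hi
      exact ⟨σ', N⟩
  have hT' : ∀ s ∈ TB M, ∀ t ∈ TB M, s * t = t * s := by
    intro s hs t ht
    exact Subtype.ext (torus_comm hA.V0 (kd_odd h2 l) (hA.iso _ s.2) (hA.iso _ t.2) hs.2 ht.2)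
  obtain ⟨hT, hpow⟩ := lift_comm_pow C hp0 hT' (N₀ := Nat.card K) fun i => by
    obtain ⟨σ', N⟩ := hNd i
    exact ⟨K, inferInstance, inferInstance, inferInstance, σ', N, fun x => by
      rw [Nat.card_eq_fintype_card]; exact FiniteField.pow_card x⟩
  -- the order of the field
  obtain ⟨a, -, ha⟩ := FiniteField.card K p
  rw [← Nat.card_eq_fintype_card] at ha
  obtain ⟨j, hj, hjK⟩ := C.exists_j hC hT (a := a) a.ne_zero (by rw [← ha]; exact hpow)
  rw [← ha] at hjK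
  -- the edges
  have hedge : ∀ i, i ∉ JB M p f φ → ∃ m, 2 ≤ m ∧ dB M p f φ i = m ^ j := by
    intro i hi
    obtain ⟨σ', N'⟩ := hNd i
    obtain ⟨σ, -, N⟩ := lift_nd C hp0 N'
    exact edge_pow_B hC C hT hi N hjK.symm
  -- the nodes `≥ 1`
  by_cases hJ : ∀ i : Fin l, 1 ≤ (i : ℕ) → i ∈ JB M p f φ
  swap
  · right
    push Not at hJ
    obtain ⟨i, hi1, hiJ⟩ := hJ
    have hd := hedge i hiJ
    rcases (show (i : ℕ) + 1 = l ∨ (i : ℕ) + 1 < l by omega) with hi | hi
    · obtain ⟨ε, hε, h3⟩ := bound_last hC C hT hi hiJ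
      rcases bo_last hl3 hj h13 hd hε h3 with ⟨rfl, hd2, h4⟩ | hb
      · rw [pow_one] at hjK
        obtain ⟨σ', hσ', N'⟩ := hNd1 i (by omega)
        have hev : ¬ Odd (Fintype.card ι) := fun ho => last_odd hC C hT hp0 hp2 ho hiJ hd2 N' hσ'
        right
        rcases h4 with ⟨h5, h6⟩ | ⟨h5, h6 | h6⟩
        · exact absurd (by rw [h6]; decide) hev
        · exact ⟨h5, hjK, h6⟩
        · exact absurd (by rw [h6]; decide) hev
      · exact Or.inl ⟨j, hjK, hb⟩
    · rcases Nat.lt_or_ge 3 l with hl4 | hl3'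
      · exact Or.inl ⟨j, hjK, Bo.of_bnd (bnd_mid hl4 hj hd (by omega) hi (bound_all hC C hT hiJ))⟩
      · obtain rfl : l = 3 := by omega
        have hi' : (i : ℕ) = 1 := by omega
        have h3 := bound_all hC C hT hiJ
        rw [hi'] at h3
        have h4 : (3 : ℕ).choose (1 + 1) * 2 ^ (1 + 1) = 12 := by decide
        rw [h4] at h3
        rcases bo_three hj h13 hd h3 with ⟨rfl, hd2, h5⟩ | hb
        · exfalso
          have hi1' : i = 1 := Fin.ext hi'
          subst hi1'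
          obtain ⟨σ', hσ', N'⟩ := hNd1 2 (by decide)
          exact mid_false hC C hT hp0 hp2 (kd_odd h2 3) h5 hiJ hd2 N' hσ'
        · exact Or.inl ⟨j, hjK, hb⟩
  -- the first node
  have ho : (⟨0, by omega⟩ : Fin l) ∉ JB M p f φ := by
    obtain ⟨i, hi⟩ := exists_node hC C hT
    have h3 : i = ⟨0, by omega⟩ := by
      by_contra h0
      refine hi (hJ i ?_)
      by_contra h1
      exact h0 (Fin.ext (by simp only; omega))
    rwa [← h3]
  obtain ⟨ε, hε, h3⟩ := bound_first hC C hT (by omega) rfl ho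
  rcases bnd_first hl3 hj (hedge _ ho) hε h3 with ⟨hj1, hd2⟩ | hb
  swap
  · exact Or.inr (Or.inl ⟨j, hjK, Bo.of_bnd hb⟩)
  left
  have hspan : Submodule.span K (Set.range (mt M.I)) = ⊤ :=
    span_E hG (by rw [Fintype.card_sum, Fintype.card_sum, Fintype.card_fin, Fintype.card_unit]; omega)
  obtain ⟨τ, θ, hθ⟩ := identify_B hC hA hp0 (by omega) hspan C hT (o := ⟨0, by omega⟩) rfl
    (fun i hi => by
      by_contra h0
      refine hi (hJ i ?_)
      by_contra h1
      exact h0 (Fin.ext (by simp only; omega))) hd2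
  have hcj : CjOf (omegaGL (quadFormOdd l F)) P := by
    refine cjOf_of (mem_omega_iff'' hG) (map_omega_glm τ fun v => ?_) hθ
    rw [coe_oddForm]
    exact quadFormOdd_map τ v
  have h2F : (2 : F) ≠ 0 := by
    intro h20
    apply h2
    have h4 : τ (2 : K) = 2 := map_ofNat τ 2
    rw [h20] at h4
    exact (map_eq_zero τ).1 h4
  have hnd : IsNondegenerateQuadraticForm (quadFormOdd l F) := by
    rw [← coe_oddForm]
    exact H925.isND_of_nondeg (nondeg_oddForm l F h2F)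
  obtain ⟨Q₁, hQ₁, hP, -⟩ := hcj.omega_form hnd
  exact ⟨Q₁, hQ₁, hP⟩

end core

end Cfsg.Agent.H451.EP
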