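import Cfsg.Agent.H451.EP.PoddCore

/-!
# S3499, own characteristic, odd dimensional orthogonal socles (helper451)

* **`own_podd`** : with `|Q| ≤ |A| ^ 4` the socle of `A` (`Big A Γ S P`) is not `PΩ_{2 d + 1}(K)`, `char K = char F`,
  unless `d = 4`, `|K| = |F|` and the dimension is 16.
-/

set_option autoImplicit false
set_option linter.unusedSectionVars false

namespace Cfsg.Agent.H451.EP

open Cfsg.Agent.H915.LD Cfsg.Agent.H274.EPO Cfsg.Agent.H419.EP
open Cfsg Cfsg.Geo QuadraticMap

variable {Q : Type} [Group Q] [Finite Q] {A : Subgroup Q} {Γ : Subgroup (MulAut Q)} {ι : Type} [Fintype ι]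
    [DecidableEq ι] {F : Type} [Field F] [Fintype F] {S P : Subgroup (GL ι F)}

/-- **S3499-VII13-POdd.** -/
theorem own_podd (x : Big A Γ S P) (hUB : Nat.card Q ≤ Nat.card A ^ 4) (K : Type) [Field K] [Fintype K] (d : ℕ)
    (hc : ringChar F = ringChar K) (hd : 3 ≤ d) (hodd : Odd (Fintype.card K))
    (h16 : d = 4 → Fintype.card K = Fintype.card F → Fintype.card ι = 16 → False)
    (hS : Nonempty (socle P ≃* Cfsg.POmega K (Cfsg.quadFormOdd d K))) : False := by
  obtain ⟨e⟩ := hS
  have hC : Core P := core_of_residual x.core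
  have hK : CharP K (ringChar F) := by
    rw [hc]
    exact ringChar.charP K
  have hF : CharP F (ringChar F) := ringChar.charP F
  have hp : Fact (ringChar F).Prime := ⟨CharP.char_is_prime F _⟩
  rcases core_podd (ringChar F) hC x.thirteen hd hodd e with ⟨Q₁, h1, h2⟩ | ⟨j, hj, hb⟩ | ⟨h1, h2, h3⟩
  · exact no_omega x h1 h2
  · have hfin : Finite (POmega K (quadFormOdd d K)) := inferInstance
    have h1 := (x.hasSoc' e).card_le
    rw [Nat.card_eq_fintype_card, Nat.card_eq_fintype_card] at hj
    obtain ⟨f, hf, hM⟩ := aut_odd hd hodd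
    have hq : 3 ≤ Fintype.card F := by
      have h2 := x.two_le
      rcases (show Fintype.card F = 2 ∨ 3 ≤ Fintype.card F by omega) with h | h
      · exfalso
        rw [h] at hj
        rcases Nat.eq_zero_or_pos j with h0 | h0
        · rw [h0, pow_zero] at hj
          have := Fintype.one_lt_card (α := K)
          omega
        · rw [← hj] at hodd
          have h3 : Even (2 ^ j) := (Nat.even_pow.2 ⟨even_two, by omega⟩)
          exact (Nat.not_even_iff_odd.2 hodd) h3
      · exact h
    exact count_odd hq hj x.ord hUB h1 hf hM hb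
  · rw [Nat.card_eq_fintype_card, Nat.card_eq_fintype_card] at h2
    exact h16 h1 h2.symm h3

end Cfsg.Agent.H451.EP
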